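import Cfsg.Agent.H164.F4.Out

/-!
# S2491, row F4, box COLL: collection in the cover (helper164)

`coll_abs` : `R` a root group datum in `G`, `π : L →* G`, `Z b ≤ L` over the root groups `X b` (`b > 0`), meeting the kernel
trivially and satisfying the commutator relations: the group generated by the `Z b` meets the kernel trivially.
-/

set_option autoImplicit false
set_option linter.unusedSectionVars false

namespace Cfsg.Agent.H164.F4.Coll

open CoxeterSystem Cfsg.Agent.ChevalleyStructure.CoxeterGeom Cfsg.Agent.Tits.Roots Cfsg.Agent.Tits.Core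
  Cfsg.Agent.Tits.RootComb Cfsg.Agent.Tits.Exchange Cfsg.Agent.Nodes.Reps Cfsg.Agent.Nodes.BNOf
  Cfsg.Agent.Nodes.StabComb Cfsg.Agent.Nodes.Bruhat Cfsg.Agent.Nodes.OppDec Cfsg.Agent.Nodes.LeviDec
  Cfsg.Agent.Nodes.Comb
open scoped commutatorElement

universe u v

section Abs

variable {I W Y : Type*} [Fintype I] [DecidableEq I] [Group W] [Group Y] {M : CoxeterMatrix I}
  {cs : CoxeterSystem M W} {A : I → I → ℤ} {h : IsCartan M A} {p : ℕ} {T : Subgroup Y} {n : I → Y}
  {X : (I → ℤ) → Subgroup Y}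

variable (R : RGD cs h p T n X) {L : Type v} [Group L] {π : L →* Y} {Z : (I → ℤ) → Subgroup L}
  (hZ : ∀ b, IsRoot cs h b → 0 ≤ b → (Z b).map π ≤ X b ∧ Z b ⊓ π.ker = ⊥)
  (hcomm : ∀ a b, IsRoot cs h a → 0 ≤ a → IsRoot cs h b → 0 ≤ b → a ≠ b →
      ⁅Z a, Z b⁆ ≤ ⨆ c : {c : I → ℤ // IsRoot cs h c ∧ ∃ i j : ℕ, 0 < i ∧ 0 < j ∧ c = i • a + j • b}, Z c.1)

include R hZ hcomm

/-- the step: the root `β = w⁻¹ α_i` and the other positive roots made positive by `w` -/
theorem step [Finite W] {w : W} {i : I} (hi : 0 ≤ rep cs h w⁻¹ (sr i))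
    (ih : RGD.Sup Z (PW cs h w \ {rep cs h w⁻¹ (sr i)}) ⊓ π.ker = ⊥) : RGD.Sup Z (PW cs h w) ⊓ π.ker = ⊥ := by
  obtain ⟨β, hβ⟩ : ∃ β, β = rep cs h w⁻¹ (sr i) := ⟨_, rfl⟩
  rw [← hβ] at hi ih
  have hwβ : rep cs h w β = sr i := by
    rw [hβ, ← rep_mul_apply, mul_inv_cancel, map_one]
    rfl
  have hβr : IsRoot cs h β := by
    rw [hβ]
    exact (isRoot_sr cs h i).act _
  have hβS : β ∈ PW cs h w := ⟨hβr, hi, by rw [hwβ]; exact NotRad.sr_nonneg i⟩
  -- images
  have hinj : ∀ x : I → ℤ, rep cs h w x = sr i → x = β := by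
    intro x hx
    rw [hβ, ← hx, ← rep_mul_apply, inv_mul_cancel, map_one]
    rfl
  -- `Z β` normalises the rest
  have hn : Z β ≤ Subgroup.normalizer (RGD.Sup Z (PW cs h w \ {β}) : Set L) := by
    have key : ∀ z ∈ Z β, ∀ y ∈ RGD.Sup Z (PW cs h w \ {β}), z * y * z⁻¹ ∈ RGD.Sup Z (PW cs h w \ {β}) := by
      intro z hz y hy
      have h1 : RGD.Sup Z (PW cs h w \ {β}) ≤ (RGD.Sup Z (PW cs h w \ {β})).comap (MulAut.conj z).toMonoidHom := by
        refine RGD.Sup_le fun b hb => fun y hy => ?_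
        change z * y * z⁻¹ ∈ RGD.Sup Z (PW cs h w \ {β})
        have h2 : ⁅z, y⁆ ∈ RGD.Sup Z (PW cs h w \ {β}) := by
          have h3 := hcomm β b hβr hi hb.1.1 hb.1.2.1 (fun h4 => hb.2 h4.symm)
            (Subgroup.commutator_mem_commutator hz hy)
          refine (iSup_le ?_ : _ ≤ RGD.Sup Z (PW cs h w \ {β})) h3
          rintro ⟨c, hc, k, l, hk, hl, rfl⟩
          refine RGD.le_Sup (S := PW cs h w \ {β}) ⟨⟨hc, ?_, ?_⟩, ?_⟩
          · exact add_nonneg (nsmul_nonneg hi k) (nsmul_nonneg hb.1.2.1 l)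
          · rw [map_add, map_nsmul, map_nsmul]
            exact add_nonneg (nsmul_nonneg (by rw [hwβ]; exact NotRad.sr_nonneg i) k) (nsmul_nonneg hb.1.2.2 l)
          · intro h4
            rw [Set.mem_singleton_iff] at h4
            -- `w b` is a positive root different from `α_i`
            have h5 : rep cs h w b ≠ sr i := fun h6 => hb.2 (hinj b h6)
            obtain ⟨m, hm, hm0⟩ := RGD.exists_coeff (hb.1.1.act w) hb.1.2.2 h5
            have h6 := congrArg (rep cs h w) h4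
            rw [map_add, map_nsmul, map_nsmul, hwβ] at h6
            have h7 := congrFun h6 m
            rw [Pi.add_apply, Pi.smul_apply, Pi.smul_apply, sr_ne hm, smul_zero, zero_add, nsmul_eq_mul] at h7
            have h8 : (0 : ℤ) < l := by exact_mod_cast hl
            nlinarith
        have h3 : z * y * z⁻¹ = ⁅z, y⁆ * y := by
          rw [commutatorElement_def]
          group
        rw [h3]
        exact mul_mem h2 (RGD.le_Sup hb hy)
      exact h1 hy
    intro z hz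
    rw [Subgroup.mem_normalizer_iff]
    intro y
    refine ⟨key z hz y, fun h1 => ?_⟩
    have h2 := key z⁻¹ (inv_mem hz) _ h1
    rwa [show z⁻¹ * (z * y * z⁻¹) * z⁻¹⁻¹ = y by group] at h2
  rw [Subgroup.eq_bot_iff_forall]
  rintro x ⟨hx, hxk⟩
  have h1 : RGD.Sup Z (PW cs h w) ≤ Z β ⊔ RGD.Sup Z (PW cs h w \ {β}) := by
    refine RGD.Sup_le fun b hb => ?_
    by_cases h2 : b = β
    · rw [h2]
      exact le_sup_left
    · exact le_trans (RGD.le_Sup (S := PW cs h w \ {β}) ⟨hb, h2⟩) le_sup_right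
  have h2 : x ∈ ((Z β ⊔ RGD.Sup Z (PW cs h w \ {β}) : Subgroup L) : Set L) := h1 hx
  rw [Subgroup.coe_mul_of_left_le_normalizer_right _ _ hn, Set.mem_mul] at h2
  obtain ⟨z, hz, y, hy, rfl⟩ := h2
  have hxk : π (z * y) = 1 := hxk
  change z * y = 1
  rw [map_mul] at hxk
  -- `π z ∈ X β ∩ Sup X (PW \ β) = 1`
  have h3 : π z ∈ X β := (hZ β hβr hi).1 ⟨z, hz, rfl⟩
  have h4 : π y ∈ RGD.Sup X (PW cs h w \ {β}) := by
    have h5 : RGD.Sup Z (PW cs h w \ {β}) ≤ (RGD.Sup X (PW cs h w \ {β})).comap π :=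
      RGD.Sup_le fun b hb y hy => RGD.le_Sup hb ((hZ b hb.1.1 hb.1.2.1).1 ⟨y, hy, rfl⟩)
    exact h5 hy
  have h5 : π z = (π y)⁻¹ := eq_inv_of_mul_eq_one_left hxk
  have h6 : π z = 1 := by
    obtain ⟨k, hk⟩ := exists_rp cs R.nsys w
    have h7 : k * π z * k⁻¹ ∈ X (sr i) := by
      rw [← hwβ, ← R.conj_rp hk hβr]
      exact conj_mem_cj.2 h3
    have h8 : k * π z * k⁻¹ ∈ VJ cs h X {i} := by
      rw [h5]
      refine conj_mem_Sup R hk (S := PW cs h w \ {β}) (fun x hx => hx.1.1) (fun x hx => ?_) (inv_mem h4)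
      obtain ⟨m, hm, hm0⟩ := RGD.exists_coeff (hx.1.1.act w) hx.1.2.2 (fun h9 => hx.2 (hinj x h9))
      exact ⟨hx.1.1.act w, hx.1.2.2, m, hm, hm0⟩
    have h9 : k * π z * k⁻¹ = 1 :=
      Cfsg.Agent.H164.F4.NotRad.eq_one_of_UJ_VJ R (J := {i}) (by
        rw [Cfsg.Agent.H164.F4.NotRad.UJ_single]
        exact h7) h8
    calc π z = k⁻¹ * (k * π z * k⁻¹) * k := by group
      _ = 1 := by rw [h9]; group
  have h7 : z = 1 := by
    have h8 := (hZ β hβr hi).2
    rw [Subgroup.eq_bot_iff_forall] at h8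
    exact h8 z ⟨hz, h6⟩
  rw [h7, one_mul]
  rw [Subgroup.eq_bot_iff_forall] at ih
  refine ih y ⟨hy, ?_⟩
  change π y = 1
  rw [h6, one_mul] at hxk
  exact hxk

theorem coll_PW [Finite W] (k : ℕ) : ∀ w : W, (PW cs h w).ncard ≤ k → RGD.Sup Z (PW cs h w) ⊓ π.ker = ⊥ := by
  induction k with
  | zero =>
    intro w hw
    have h1 : (PW cs h w).Finite := (RGD.finite_roots (cs := cs) (h := h)).subset fun x hx => hx.1
    have h2 := (Set.ncard_eq_zero h1).1 (Nat.le_zero.1 hw)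
    rw [h2, Cfsg.Agent.Nodes.OppDec.Sup_empty, bot_inf_eq]
  | succ k ih =>
    intro w hw
    have h1 : (PW cs h w).Finite := (RGD.finite_roots (cs := cs) (h := h)).subset fun x hx => hx.1
    by_cases h2 : ∃ i, 0 ≤ rep cs h w⁻¹ (sr i)
    · obtain ⟨i, hi⟩ := h2
      refine step R hZ hcomm hi ?_
      -- `PW w \ {β} = PW (s_i w)`
      have h3 : PW cs h w \ {rep cs h w⁻¹ (sr i)} = PW cs h (cs.simple i * w) := by
        ext x
        constructor
        · rintro ⟨⟨a1, a2, a3⟩, a4⟩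
          refine ⟨a1, a2, ?_⟩
          rw [rep_mul_apply]
          refine (a1.act w).simple_nonneg a3 i fun h9 => a4 ?_
          rw [Set.mem_singleton_iff, ← h9, ← rep_mul_apply, inv_mul_cancel, map_one]
          rfl
        · rintro ⟨a1, a2, a3⟩
          rw [rep_mul_apply] at a3
          have h9 : rep cs h (cs.simple i) (rep cs h (cs.simple i) (rep cs h w x)) = rep cs h w x := by
            rw [← rep_mul_apply, cs.simple_mul_simple_self, map_one]
            rfl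
          have h11 : x ≠ rep cs h w⁻¹ (sr i) := by
            rintro rfl
            rw [← rep_mul_apply cs h w, mul_inv_cancel, map_one] at a3
            have h12 : (0 : I → ℤ) ≤ rep cs h (cs.simple i) (sr i) := a3
            rw [rep_simple_sr] at h12
            have h13 : (0 : ℤ) ≤ (-sr i : I → ℤ) i := h12 i
            rw [Pi.neg_apply, sr_self] at h13
            norm_num at h13
          refine ⟨⟨a1, a2, ?_⟩, h11⟩
          rw [← h9]
          refine (((a1.act w).act (cs.simple i))).simple_nonneg a3 i fun h12 => ?_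
          -- then `w x = -α_i`, `x = -β`
          have h13 : rep cs h w x = -sr i := by
            rw [← h9, h12, rep_simple_sr]
          have h14 : x = -rep cs h w⁻¹ (sr i) := by
            rw [← map_neg, ← h13, ← rep_mul_apply, inv_mul_cancel, map_one]
            rfl
          rw [h14] at a1 a2
          exact a1.not_pos_neg a2 (neg_nonpos.2 hi)
      rw [h3]
      refine ih _ ?_
      rw [← h3]
      have h4 : rep cs h w⁻¹ (sr i) ∈ PW cs h w := ⟨(isRoot_sr cs h i).act _, hi, by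
        rw [← rep_mul_apply, mul_inv_cancel, map_one]
        exact NotRad.sr_nonneg i⟩
      have h5 := Set.ncard_sdiff_singleton_lt_of_mem h4 h1
      exact Nat.lt_succ_iff.1 (lt_of_lt_of_le h5 hw)
    · push Not at h2
      have h3 : PW cs h w = ∅ := by
        rw [Set.eq_empty_iff_forall_notMem]
        rintro x ⟨a1, a2, a3⟩
        have h4 : ∀ i, rep cs h w⁻¹ (sr i) ≤ 0 := fun i =>
          (((isRoot_sr cs h i).act w⁻¹).pos_or_neg).resolve_left (h2 i)
        obtain ⟨z, hz⟩ : ∃ z, z = rep cs h w x := ⟨_, rfl⟩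
        have h5 : x = rep cs h w⁻¹ z := by
          rw [hz, ← rep_mul_apply, inv_mul_cancel, map_one]
          rfl
        have h6 : z = ∑ k, z k • sr k := by
          funext j
          simp [Finset.sum_apply, sr, Pi.single_apply]
        have h7 : x ≤ 0 := by
          rw [h5, h6, map_sum]
          refine Finset.sum_nonpos fun k _ => ?_
          rw [map_smul]
          intro j
          rw [Pi.smul_apply, smul_eq_mul]
          exact mul_nonpos_of_nonneg_of_nonpos (by rw [hz]; exact a3 k) (h4 k j)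
        exact a1.not_pos_neg a2 h7
      rw [h3, Cfsg.Agent.Nodes.OppDec.Sup_empty, bot_inf_eq]

/-- **Collection** -/
theorem coll_abs [Finite W] : RGD.Sup Z {b | IsRoot cs h b ∧ 0 ≤ b} ⊓ π.ker = ⊥ := by
  have h1 := coll_PW R hZ hcomm _ (1 : W) le_rfl
  rwa [PW_one] at h1

end Abs

section Inst

open Cfsg.Agent.Nodes Cfsg.Agent.Nodes.RGDLib
open Cfsg.Lie Subgroup
open Cfsg.Agent.H231.QF

variable {F : Type u} [Field F] [Fintype F] (hF : Fintype.card F = 4) {φ : F →+* F} (hφ : ∀ t, φ t = t ^ 2)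

include hF hφ

/-- **COLL** -/
theorem coll {L : Type v} [Group L] {π : L →* KK F} (Y : (Fin 4 → ℤ) → Subgroup L)
    (hY : ∀ b, IsRoot Cfsg.Agent.H231.QF.cs RGDTwE6.isCartan b → 0 ≤ b →
      (Y b).map π = Cfsg.Agent.H231.QF.X φ b ∧ Y b ⊓ π.ker = ⊥)
    (hcomm : ∀ a b, IsRoot Cfsg.Agent.H231.QF.cs RGDTwE6.isCartan a → 0 ≤ a →
      IsRoot Cfsg.Agent.H231.QF.cs RGDTwE6.isCartan b → 0 ≤ b → a ≠ b →
      ⁅Y a, Y b⁆ ≤ ⨆ c : {c : Fin 4 → ℤ // IsRoot Cfsg.Agent.H231.QF.cs RGDTwE6.isCartan c ∧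
        ∃ i j : ℕ, 0 < i ∧ 0 < j ∧ c = i • a + j • b}, Y c.1) :
    (⨆ b : {b : Fin 4 → ℤ // IsRoot Cfsg.Agent.H231.QF.cs RGDTwE6.isCartan b ∧ 0 ≤ b}, Y b.1) ⊓ π.ker = ⊥ := by
  have : CharP F 2 := OutV.charTwo hF
  have : Fact (Nat.Prime 2) := ⟨Nat.prime_two⟩
  have : Finite (KK F) := inferInstance
  have : Finite CoxeterMatrix.F₄.Group :=
    Cfsg.Agent.Nodes.RGDFold.finite_W (hp := RGDTwE6.hp) Cfsg.Agent.H231.QF.cs RGDTwE6.isCartan RGDTwE6.foldData
  exact coll_abs (RGDTwE6.rgd Cfsg.Agent.H231.QF.cs hφ (OutV.hqq hF) 2)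
    (fun b h1 h2 => ⟨(hY b h1 h2).1.le, (hY b h1 h2).2⟩) hcomm

end Inst

end Cfsg.Agent.H164.F4.Coll
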