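import Cfsg.Agent.Nodes.LeviDec
import Cfsg.Agent.Nodes.Comb

/-!
# Elements of a maximal parabolic outside of the radical (helper164, box (e) of S2491 F4)

`R` a root group datum, `J = {k | k ≠ j}`, `i` adjacent to `j` by a simple bond.

`exists_notMem` : if `g ≠ 1` has a conjugate in `P_J`, it has a conjugate in `P_J` outside of `V_J`.
-/

set_option autoImplicit false
set_option linter.unusedSectionVars false

namespace Cfsg.Agent.H164.F4.NotRad

open CoxeterSystem Cfsg.Agent.ChevalleyStructure.CoxeterGeom Cfsg.Agent.Tits.Roots Cfsg.Agent.Tits.Core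
  Cfsg.Agent.Tits.RootComb Cfsg.Agent.Tits.Exchange Cfsg.Agent.Nodes.Reps Cfsg.Agent.Nodes.BNOf
  Cfsg.Agent.Nodes.StabComb Cfsg.Agent.Nodes.Bruhat Cfsg.Agent.Nodes.OppDec Cfsg.Agent.Nodes.LeviDec
  Cfsg.Agent.Nodes.Comb
open scoped commutatorElement

variable {I W Y : Type*} [Fintype I] [DecidableEq I] [Group W] [Group Y] {M : CoxeterMatrix I}
  {cs : CoxeterSystem M W} {A : I → I → ℤ} {h : IsCartan M A} {p : ℕ} {T : Subgroup Y} {n : I → Y}
  {X : (I → ℤ) → Subgroup Y}

section Comb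

variable {i j : I}

theorem pairing_sr : pairing A i (sr j) = A i j := by
  unfold pairing
  rw [Finset.sum_eq_single j]
  · rw [sr_self, mul_one]
  · intro k _ hk
    rw [sr_ne hk, mul_zero]
  · intro hk
    exact absurd (Finset.mem_univ j) hk

theorem rep_left (hA : A i j = -1) : rep cs h (cs.simple i) (sr j) = sr i + sr j := by
  rw [rep_simple_eq, pairing_sr, hA]
  module

theorem rep_sum_left (hA : A i j = -1) : rep cs h (cs.simple i) (sr i + sr j) = sr j := by
  rw [map_add, rep_simple_sr, rep_left hA]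
  module

theorem rep_sum_right (hA' : A j i = -1) : rep cs h (cs.simple j) (sr i + sr j) = sr i := by
  rw [add_comm, rep_sum_left hA']

/-- the six roots -/
def Six (i j : I) (x : I → ℤ) : Prop :=
  (x = sr i ∨ x = sr j ∨ x = sr i + sr j) ∨ (x = -sr i ∨ x = -sr j ∨ x = -(sr i + sr j))

omit [Fintype I] in
theorem Six.swap {x : I → ℤ} (hx : Six i j x) : Six j i x := by
  rcases hx with (h1 | h1 | h1) | (h1 | h1 | h1)
  · exact Or.inl (Or.inr (Or.inl h1))
  · exact Or.inl (Or.inl h1)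
  · exact Or.inl (Or.inr (Or.inr (by rw [h1, add_comm])))
  · exact Or.inr (Or.inr (Or.inl h1))
  · exact Or.inr (Or.inl h1)
  · exact Or.inr (Or.inr (Or.inr (by rw [h1, add_comm])))

theorem six_rep (hA : A i j = -1) {x : I → ℤ} (hx : Six i j x) : Six i j (rep cs h (cs.simple i) x) := by
  rcases hx with (h1 | h1 | h1) | (h1 | h1 | h1)
  · rw [h1, rep_simple_sr]; exact Or.inr (Or.inl rfl)
  · rw [h1, rep_left hA]; exact Or.inl (Or.inr (Or.inr rfl))
  · rw [h1, rep_sum_left hA]; exact Or.inl (Or.inr (Or.inl rfl))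
  · rw [h1, map_neg, rep_simple_sr, neg_neg]; exact Or.inl (Or.inl rfl)
  · rw [h1, map_neg, rep_left hA]; exact Or.inr (Or.inr (Or.inr rfl))
  · rw [h1, map_neg, rep_sum_left hA]; exact Or.inr (Or.inr (Or.inl rfl))

theorem six_rep_iff (hA : A i j = -1) {x : I → ℤ} : Six i j x ↔ Six i j (rep cs h (cs.simple i) x) := by
  refine ⟨six_rep hA, fun hx => ?_⟩
  have h1 := six_rep (cs := cs) (h := h) hA hx
  rwa [← rep_mul_apply, cs.simple_mul_simple_self, map_one] at h1

theorem six_rep_WJ (hA : A i j = -1) (hA' : A j i = -1) {v : W} (hv : v ∈ WJ cs {i, j}) :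
    ∀ x, Six i j x ↔ Six i j (rep cs h v x) := by
  refine Subgroup.closure_induction (p := fun v _ => ∀ x, Six i j x ↔ Six i j (rep cs h v x)) ?_ ?_ ?_ ?_ hv
  · rintro _ ⟨k, hk, rfl⟩ x
    rcases hk with rfl | hk
    · exact six_rep_iff hA
    · rw [Set.mem_singleton_iff] at hk
      subst hk
      have h1 := six_rep_iff (cs := cs) (h := h) hA' (x := x)
      exact ⟨fun hx => (h1.1 hx.swap).swap, fun hx => (h1.2 hx.swap).swap⟩
  · intro x
    rw [map_one]
    rfl
  · intro a b _ _ ha hb x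
    rw [rep_mul_apply]
    exact (hb x).trans (ha _)
  · intro a _ ha x
    rw [ha (rep cs h a⁻¹ x), ← rep_mul_apply, mul_inv_cancel, map_one]
    rfl

/-- the roots supported on `i, j` -/
theorem six_of_supp [Finite W] (hA : A i j = -1) (hA' : A j i = -1) {x : I → ℤ} (hx : IsRoot cs h x)
    (hs : Supp i j x) : Six i j x := by
  obtain ⟨v, hv, k, hk, rfl⟩ := exists_of_supp cs h hx hs
  refine (six_rep_WJ hA hA' hv _).1 ?_
  rcases hk with rfl | rfl
  · exact Or.inl (Or.inl rfl)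
  · exact Or.inl (Or.inr (Or.inl rfl))

/-- the positive roots supported on `i, j` -/
theorem pos_of_supp [Finite W] (hA : A i j = -1) (hA' : A j i = -1) {x : I → ℤ} (hx : IsRoot cs h x)
    (hs : Supp i j x) (h0 : 0 ≤ x) : x = sr i ∨ x = sr j ∨ x = sr i + sr j := by
  rcases six_of_supp hA hA' hx hs with h1 | h1
  · exact h1
  · exfalso
    rcases h1 with rfl | rfl | rfl
    · have h2 : (0 : ℤ) ≤ (-sr i : I → ℤ) i := h0 i
      rw [Pi.neg_apply, sr_self] at h2
      omega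
    · have h2 : (0 : ℤ) ≤ (-sr j : I → ℤ) j := h0 j
      rw [Pi.neg_apply, sr_self] at h2
      omega
    · have h2 : (0 : ℤ) ≤ (-(sr i + sr j) : I → ℤ) i := h0 i
      rw [Pi.neg_apply, Pi.add_apply, sr_self] at h2
      by_cases h3 : i = j
      · subst h3
        rw [sr_self] at h2
        omega
      · rw [sr_ne h3] at h2
        omega

end Comb

section Main

variable {i j : I}

theorem UJ_single (k : I) : UJ cs h X {k} = X (sr k) := by
  apply le_antisymm
  · refine RGD.Sup_le fun z hz => ?_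
    have h1 : z = sr k := by
      by_contra h2
      obtain ⟨l, hl, hl0⟩ := RGD.exists_coeff hz.1 hz.2.1 h2
      have := hz.2.2 l hl
      omega
    rw [h1]
  · refine RGD.le_Sup (S := PosJ cs h {k}) ⟨isRoot_sr cs h k, ?_, fun l hl => sr_ne hl⟩
    intro l
    rw [Pi.zero_apply]
    by_cases hl : l = k
    · subst hl
      rw [sr_self]
      norm_num
    · rw [sr_ne hl]

variable (R : RGD cs h p T n X)

include R

theorem isRoot_sum (hA : A i j = -1) : IsRoot cs h (sr i + sr j) := by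
  rw [← rep_left (cs := cs) (h := h) hA]
  exact (isRoot_sr cs h j).act _

theorem X_sum_le_VJ (hij : i ≠ j) (hA : A i j = -1) : X (sr i + sr j) ≤ VJ cs h X {j} := by
  refine RGD.le_Sup (S := NotJ cs h {j}) ⟨isRoot_sum R hA, ?_, i, hij, ?_⟩
  · intro k
    rw [Pi.zero_apply, Pi.add_apply]
    have h1 : ∀ a b : I, 0 ≤ (sr b : I → ℤ) a := by
      intro a b
      by_cases hab : a = b
      · subst hab
        rw [sr_self]
        norm_num
      · rw [sr_ne hab]
    exact add_nonneg (h1 k i) (h1 k j)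
  · rw [Pi.add_apply, sr_self, sr_ne hij]
    norm_num

theorem btw_bot_left (hij : i ≠ j) : btw cs h X (sr j) (-sr i) = ⊥ := by
  rw [eq_bot_iff]
  unfold Cfsg.Agent.Nodes.Reps.btw
  refine iSup_le ?_
  rintro ⟨z, hz, m, a, b, hm, ha, hb, e⟩
  exfalso
  have e1 := congrFun e i
  have e2 := congrFun e j
  simp only [Pi.add_apply, Pi.smul_apply, Pi.neg_apply, smul_eq_mul, sr_self, sr_ne hij, sr_ne hij.symm] at e1 e2
  have h1 : z i < 0 := by nlinarith
  have h2 : 0 < z j := by nlinarith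
  rcases hz.pos_or_neg with h3 | h3
  · exact absurd (h3 i) (by simpa using h1)
  · exact absurd (h3 j) (by simpa using h2)

/-- an element of `X_j` commuting with an element `≠ 1` of `X_i` -/
theorem eq_one_of_commute [Finite W] (hij : i ≠ j) (hA : A i j = -1) {a b : Y} (ha : a ∈ X (sr j)) (hb : b ∈ X (sr i))
    (hb1 : b ≠ 1) (hab : a * b = b * a) : a = 1 := by
  have hri := isRoot_sr cs h i
  have hrj := isRoot_sr cs h j
  have hc : cj (n i) (X (-sr i)) = X (sr i) := by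
    rw [R.conj i _ hri.neg, map_neg, rep_simple_sr, neg_neg]
  have hc' : cj (n i) (X (sr i)) = X (-sr i) := by
    rw [R.conj i _ hri, rep_simple_sr]
  have hu : (n i)⁻¹ * b * n i ∈ X (-sr i) := by
    rw [← hc] at hb
    exact mem_cj.1 hb
  have hu1 : (n i)⁻¹ * b * n i ≠ 1 := by
    intro h1
    apply hb1
    calc b = n i * ((n i)⁻¹ * b * n i) * (n i)⁻¹ := by group
      _ = 1 := by rw [h1]; group
  obtain ⟨a1, ha1, t, ht, b1, hb1', e⟩ := R.rk1 i _ hu hu1
  have hd : n i * a1 * (n i)⁻¹ ∈ X (-sr i) := by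
    rw [← hc']
    exact conj_mem_cj.2 ha1
  have hd' : n i * b1 * (n i)⁻¹ ∈ X (-sr i) := by
    rw [← hc']
    exact conj_mem_cj.2 hb1'
  have hcomm : ∀ d ∈ X (-sr i), a * d = d * a := by
    intro d hd
    have h1 := R.comm (sr j) (-sr i) hrj hri.neg (by
      intro h2
      have h3 := congrFun h2 i
      rw [Pi.neg_apply, sr_self, sr_ne hij] at h3
      omega) (by
      intro h2
      have h3 := congrFun h2 i
      rw [neg_neg, sr_self, sr_ne hij] at h3
      omega) a ha d hd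
    rw [btw_bot_left R hij, Subgroup.mem_bot, commutatorElement_eq_one_iff_mul_comm] at h1
    exact h1
  have hk : n i * t = (n i * a1 * (n i)⁻¹)⁻¹ * b * (n i * b1 * (n i)⁻¹)⁻¹ := by
    have e2 : b = n i * ((n i)⁻¹ * b * n i) * (n i)⁻¹ := by group
    rw [e] at e2
    rw [e2]
    group
  have hcomk : a * (n i * t) = n i * t * a := by
    have h1 := hcomm _ (inv_mem hd)
    have h2 := hcomm _ (inv_mem hd')
    rw [hk]
    calc a * ((n i * a1 * (n i)⁻¹)⁻¹ * b * (n i * b1 * (n i)⁻¹)⁻¹)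
        = (a * (n i * a1 * (n i)⁻¹)⁻¹) * b * (n i * b1 * (n i)⁻¹)⁻¹ := by group
      _ = (n i * a1 * (n i)⁻¹)⁻¹ * (a * b) * (n i * b1 * (n i)⁻¹)⁻¹ := by rw [h1]; group
      _ = (n i * a1 * (n i)⁻¹)⁻¹ * b * (a * (n i * b1 * (n i)⁻¹)⁻¹) := by rw [hab]; group
      _ = (n i * a1 * (n i)⁻¹)⁻¹ * b * (n i * b1 * (n i)⁻¹)⁻¹ * a := by rw [h2]; group
  have hm : a ∈ X (sr i + sr j) := by
    have h1 : cj (n i * t) (X (sr j)) = X (sr i + sr j) := by
      rw [cj_mul, R.tor _ hrj t ht, R.conj i _ hrj, rep_left hA]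
    rw [← h1, mem_cj]
    have h2 : (n i * t)⁻¹ * a * (n i * t) = a := by
      rw [mul_assoc, hcomk]
      group
    rw [h2]
    exact ha
  have h3 := UJ_inf_VJ R (T := T) (J := {j})
  rw [Subgroup.eq_bot_iff_forall] at h3
  refine h3 a ⟨?_, X_sum_le_VJ R hij hA hm⟩
  rw [UJ_single]
  exact ha

omit R in
theorem btwn_supp {x y z : I → ℤ} (hx : Supp i j x) (hy : Supp i j y) (hz : Btwn cs h x y z) : Supp i j z := by
  obtain ⟨-, m, a, b, hm, -, -, e⟩ := hz
  intro k h1 h2
  have e1 := congrFun e k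
  rw [Pi.add_apply, Pi.smul_apply, Pi.smul_apply, Pi.smul_apply, hx k h1 h2, hy k h1 h2, smul_zero, smul_zero,
    add_zero, smul_eq_mul] at e1
  exact (mul_eq_zero.1 e1).resolve_left hm.ne'

omit R in
theorem supp_sum : Supp i j (sr i + sr j) := fun k h1 h2 => by
  rw [Pi.add_apply, sr_ne h1, sr_ne h2, add_zero]

omit R in
theorem sr_nonneg (i : I) : (0 : I → ℤ) ≤ sr i := by
  intro k
  rw [Pi.zero_apply]
  by_cases hab : k = i
  · subst hab
    rw [sr_self]
    norm_num
  · rw [sr_ne hab]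

/-- `X_(i+j)` commutes with `X_i` -/
theorem comm_sum [Finite W] (hij : i ≠ j) (hA : A i j = -1) (hA' : A j i = -1) {b c : Y} (hb : b ∈ X (sr i))
    (hc : c ∈ X (sr i + sr j)) : b * c = c * b := by
  have hri := isRoot_sr cs h i
  have h1 := R.comm (sr i) (sr i + sr j) hri (isRoot_sum R hA) (by
      intro h2
      have h3 := congrFun h2 j
      rw [Pi.add_apply, sr_self, sr_ne hij.symm] at h3
      omega) (by
      intro h2
      have h3 := congrFun h2 i
      rw [Pi.neg_apply, Pi.add_apply, sr_self, sr_ne hij] at h3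
      omega) b hb c hc
  have h2 : btw cs h X (sr i) (sr i + sr j) = ⊥ := by
    rw [eq_bot_iff]
    unfold Cfsg.Agent.Nodes.Reps.btw
    refine iSup_le ?_
    rintro ⟨z, hz⟩
    exfalso
    have h3 := btwn_supp (supp_sr_left i j) supp_sum hz
    have h4 := RGD.nonneg_of_btwn (sr_nonneg i) (add_nonneg (sr_nonneg i) (sr_nonneg j)) hz
    obtain ⟨hz', m, a, b, hm, ha, hb, e⟩ := hz
    have e1 := congrFun e i
    have e2 := congrFun e j
    simp only [Pi.add_apply, Pi.smul_apply, smul_eq_mul, sr_self, sr_ne hij, sr_ne hij.symm] at e1 e2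
    rcases pos_of_supp hA hA' hz' h3 h4 with h5 | h5 | h5
    · rw [h5] at e2
      rw [sr_ne hij.symm] at e2
      nlinarith
    · rw [h5] at e1
      rw [sr_ne hij] at e1
      nlinarith
    · rw [h5] at e1 e2
      rw [Pi.add_apply, sr_self, sr_ne hij] at e1
      rw [Pi.add_apply, sr_self, sr_ne hij.symm] at e2
      nlinarith
  rw [h2, Subgroup.mem_bot, commutatorElement_eq_one_iff_mul_comm] at h1
  exact h1

/-- `[X_i, X_j] ≤ X_(i+j)` -/
theorem comm_mem [Finite W] (hij : i ≠ j) (hA : A i j = -1) (hA' : A j i = -1) {b a : Y} (hb : b ∈ X (sr i))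
    (ha : a ∈ X (sr j)) : ⁅b, a⁆ ∈ X (sr i + sr j) := by
  have hri := isRoot_sr cs h i
  have hrj := isRoot_sr cs h j
  have h1 := R.comm (sr i) (sr j) hri hrj (by
      intro h2
      have h3 := congrFun h2 j
      rw [sr_self, sr_ne hij.symm] at h3
      omega) (by
      intro h2
      have h3 := congrFun h2 i
      rw [Pi.neg_apply, sr_self, sr_ne hij] at h3
      omega) b hb a ha
  have h2 : btw cs h X (sr i) (sr j) ≤ X (sr i + sr j) := by
    unfold Cfsg.Agent.Nodes.Reps.btw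
    refine iSup_le ?_
    rintro ⟨z, hz⟩
    have h3 := btwn_supp (supp_sr_left i j) (supp_sr_right i j) hz
    have h4 := RGD.nonneg_of_btwn (sr_nonneg i) (sr_nonneg j) hz
    obtain ⟨hz', m, a, b, hm, ha, hb, e⟩ := hz
    have e1 := congrFun e i
    have e2 := congrFun e j
    simp only [Pi.add_apply, Pi.smul_apply, smul_eq_mul, sr_self, sr_ne hij, sr_ne hij.symm] at e1 e2
    rcases pos_of_supp hA hA' hz' h3 h4 with h5 | h5 | h5
    · exfalso
      rw [h5] at e2
      rw [sr_ne hij.symm] at e2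
      nlinarith
    · exfalso
      rw [h5] at e1
      rw [sr_ne hij] at e1
      nlinarith
    · change X z ≤ _
      rw [h5]
  exact h2 h1

/-- the commutators `[X_i, a]` fill `X_(i+j)` -/
theorem exists_conj_eq [Finite W] [Finite Y] (hij : i ≠ j) (hA : A i j = -1) (hA' : A j i = -1) {a c : Y}
    (ha : a ∈ X (sr j)) (ha1 : a ≠ 1) (hc : c ∈ X (sr i + sr j)) : ∃ b ∈ X (sr i), b * (a * c) * b⁻¹ = a := by
  have hcard : Nat.card ↥(X (sr i)) = Nat.card ↥(X (sr i + sr j)) := by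
    have h1 : cj (n j) (X (sr i)) = X (sr i + sr j) := by
      rw [R.conj j _ (isRoot_sr cs h i), rep_left hA', add_comm]
    rw [← h1]
    exact Nat.card_congr ((X (sr i)).equivMapOfInjective _ (MulAut.conj (n j)).injective).toEquiv
  let F : ↥(X (sr i)) → ↥(X (sr i + sr j)) := fun b => ⟨⁅(b : Y), a⁆, comm_mem R hij hA hA' b.2 ha⟩
  have hF : Function.Injective F := by
    intro b b' hbb
    have h1 : ⁅(b : Y), a⁆ = ⁅(b' : Y), a⁆ := congrArg Subtype.val hbb
    rw [commutatorElement_def, commutatorElement_def] at h1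
    have h2 : (b : Y) * a * (b : Y)⁻¹ = b' * a * (b' : Y)⁻¹ := mul_right_cancel h1
    have h3 : a * ((b' : Y)⁻¹ * b) = (b' : Y)⁻¹ * b * a := by
      calc a * ((b' : Y)⁻¹ * b) = (b' : Y)⁻¹ * (b' * a * (b' : Y)⁻¹) * b := by group
        _ = (b' : Y)⁻¹ * (b * a * (b : Y)⁻¹) * b := by rw [h2]
        _ = _ := by group
    by_contra hne
    refine ha1 (eq_one_of_commute R hij hA ha (mul_mem (inv_mem b'.2) b.2) ?_ h3)
    intro h4
    apply hne
    apply Subtype.ext
    calc (b : Y) = b' * ((b' : Y)⁻¹ * b) := by group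
      _ = b' := by rw [h4, mul_one]
  have hsur : Function.Surjective F := by
    have : Finite ↥(X (sr i)) := inferInstance
    have h1 := Nat.bijective_iff_injective_and_card F
    exact (h1.2 ⟨hF, hcard⟩).2
  obtain ⟨⟨b, hb⟩, e⟩ := hsur ⟨c⁻¹, inv_mem hc⟩
  have e' : ⁅b, a⁆ = c⁻¹ := congrArg Subtype.val e
  refine ⟨b, hb, ?_⟩
  have h1 := comm_sum R hij hA hA' hb hc
  -- `a` commutes with `X_(i+j)`
  have h2 : a * c = c * a := comm_sum R (i := j) (j := i) hij.symm hA' hA ha (by rw [add_comm]; exact hc)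
  have h3 : b * a * b⁻¹ = c⁻¹ * a := by
    rw [← e', commutatorElement_def]
    group
  calc b * (a * c) * b⁻¹ = (b * a * b⁻¹) * (b * c * b⁻¹) := by group
    _ = (c⁻¹ * a) * c := by rw [h3, h1]; group
    _ = c⁻¹ * (a * c) := by group
    _ = a := by rw [h2]; group

omit R in
theorem VJ_le_VJ {J J' : Set I} (hJ : J' ⊆ J) : VJ cs h X J ≤ VJ cs h X J' :=
  RGD.Sup_mono fun _ ⟨h1, h2, k, hk, h3⟩ => ⟨h1, h2, k, fun h4 => hk (hJ h4), h3⟩

theorem eq_one_of_UJ_VJ [Finite W] {J : Set I} {x : Y} (h1 : x ∈ UJ cs h X J) (h2 : x ∈ VJ cs h X J) : x = 1 := by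
  have h3 := UJ_inf_VJ R (T := T) (J := J)
  rw [Subgroup.eq_bot_iff_forall] at h3
  exact h3 x ⟨h1, h2⟩

/-- the conjugate by a representative of `s_j` stays in `V_J` -/
theorem step [Finite W] [Finite Y] (hij : i ≠ j) (hA : A i j = -1) (hA' : A j i = -1) {g : Y}
    (hg : g ∈ VJ cs h X {k | k ≠ j})
    (hQ : ∀ y, y * g * y⁻¹ ∈ PJ cs h T X {k | k ≠ j} → y * g * y⁻¹ ∈ VJ cs h X {k | k ≠ j}) :
    n j * g * (n j)⁻¹ ∈ VJ cs h X {k | k ≠ j} := by
  have hri := isRoot_sr cs h i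
  have hrj := isRoot_sr cs h j
  have hUP : RGD.Sup X (RGD.Pos cs h) ≤ PJ cs h T X {k | k ≠ j} := le_trans RGD.U_le_B B_le_PJ
  have hgU : g ∈ RGD.Sup X (RGD.Pos cs h) := VJ_le_U _ hg
  obtain ⟨a, ha, v, hv, hgav⟩ := (mem_U_iff R (T := T) (J := {j})).1 hgU
  have hnj : n j ∈ LJ cs h T X {j} := n_mem_LJ R (Set.mem_singleton j)
  by_cases ha1 : a = 1
  · -- the easy case
    refine hQ _ (hUP (VJ_le_U {j} ?_))
    rw [ha1, one_mul] at hgav
    rw [hgav]
    exact (Subgroup.mem_normalizer_iff.1 (LJ_le_normalizer_VJ R {j} hnj) v).1 hv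
  · exfalso
    rw [UJ_single] at ha
    have hVi : VJ cs h X {k | k ≠ j} ≤ VJ cs h X {i} := VJ_le_VJ (by
      rintro k hk
      rw [Set.mem_singleton_iff] at hk
      rw [hk]
      exact hij)
    have hVij : VJ cs h X {i, j} ≤ VJ cs h X {i} := VJ_le_VJ (by
      rintro k hk
      rw [Set.mem_singleton_iff] at hk
      rw [hk]
      exact Or.inl rfl)
    have hVij' : VJ cs h X {i, j} ≤ VJ cs h X {j} := VJ_le_VJ (by
      rintro k hk
      rw [Set.mem_singleton_iff] at hk
      rw [hk]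
      exact Or.inr rfl)
    obtain ⟨u, hu, v2, hv2, hguv⟩ := (mem_U_iff R (T := T) (J := {i, j})).1 hgU
    -- the roots of `{i, j}`
    have hsupp : ∀ z ∈ PosJ cs h {i, j}, z = sr i ∨ z = sr j ∨ z = sr i + sr j := fun z hz =>
      pos_of_supp hA hA' hz.1 (fun k h1 h2 => hz.2.2 k (by
        rintro (h3 | h3)
        · exact h1 h3
        · exact h2 h3)) hz.2.1
    have hPi : sr i ∈ PosJ cs h {i, j} := ⟨hri, sr_nonneg i, fun k hk => sr_ne fun h1 => hk (Or.inl h1)⟩
    have hPj : sr j ∈ PosJ cs h {i, j} := ⟨hrj, sr_nonneg j, fun k hk => sr_ne fun h1 => hk (Or.inr h1)⟩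
    have hclos : ∀ x ∈ PosJ cs h {i, j}, ∀ y ∈ PosJ cs h {i, j}, ∀ z, Btwn cs h x y z → z ∈ PosJ cs h {i, j} := by
      intro x hx y hy z hz
      refine ⟨hz.1, RGD.nonneg_of_btwn hx.2.1 hy.2.1 hz, fun k hk => ?_⟩
      obtain ⟨-, m, a, b, hm, -, -, e⟩ := hz
      have e1 := congrFun e k
      rw [Pi.add_apply, Pi.smul_apply, Pi.smul_apply, Pi.smul_apply, hx.2.2 k hk, hy.2.2 k hk, smul_zero, smul_zero,
        add_zero, smul_eq_mul] at e1
      exact (mul_eq_zero.1 e1).resolve_left hm.ne'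
    obtain ⟨r, hr, u', hu', hur⟩ := exists_mul R (S := PosJ cs h {i, j}) (i := i) (fun x hx => ⟨hx.1, hx.2.1⟩) hPi
      (fun y hy _ z hz => hclos _ hPi _ hy z hz) hu
    -- `u' = 1`
    have hrV : RGD.Sup X (PosJ cs h {i, j} \ {sr i}) ≤ VJ cs h X {i} := by
      refine RGD.Sup_mono fun z hz => ⟨hz.1.1, hz.1.2.1, ?_⟩
      obtain ⟨k, hk, hk0⟩ := RGD.exists_coeff hz.1.1 hz.1.2.1 (fun h1 => hz.2 h1)
      exact ⟨k, hk, hk0⟩
    have hu'1 : u' = 1 := by
      refine eq_one_of_UJ_VJ R (J := {i}) ?_ ?_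
      · rw [UJ_single]
        exact hu'
      · have e : u' = r⁻¹ * (g * v2⁻¹) := by
          rw [hguv, hur]
          group
        rw [e]
        exact mul_mem (inv_mem (hrV hr)) (mul_mem (hVi hg) (inv_mem (hVij hv2)))
    rw [hu'1, mul_one] at hur
    subst hur
    -- `u = c a'`
    have hS2 : ∀ z ∈ PosJ cs h {i, j} \ {sr i}, z = sr j ∨ z = sr i + sr j := by
      intro z hz
      rcases hsupp z hz.1 with h1 | h1 | h1
      · exact absurd h1 hz.2
      · exact Or.inl h1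
      · exact Or.inr h1
    obtain ⟨c, hc, a', ha', hua⟩ := exists_mul R (S := PosJ cs h {i, j} \ {sr i}) (i := j)
      (fun x hx => ⟨hx.1.1, hx.1.2.1⟩) ⟨hPj, fun h1 => by
        have h2 := congrFun (Set.mem_singleton_iff.1 h1) i
        rw [sr_self, sr_ne hij] at h2
        omega⟩
      (fun y hy hyj z hz => ⟨hclos _ hPj _ hy.1 z hz, fun h1 => by
        rw [Set.mem_singleton_iff] at h1
        obtain ⟨-, m, a, b, hm, ha0, hb0, e⟩ := hz
        have e1 := congrFun e j
        rw [h1, Pi.add_apply, Pi.smul_apply, Pi.smul_apply, Pi.smul_apply, sr_self, sr_ne hij.symm] at e1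
        have h3 := hy.1.2.1 j
        simp only [smul_eq_mul, Pi.zero_apply, mul_zero, mul_one] at e1 h3
        nlinarith [mul_nonneg hb0.le h3]⟩) hr
    have hc' : c ∈ X (sr i + sr j) := by
      refine (RGD.Sup_le (K := X (sr i + sr j)) fun z hz => ?_) hc
      rcases hS2 z hz.1 with h1 | h1
      · exact absurd h1 hz.2
      · rw [h1]
    have hcV := X_sum_le_VJ R hij hA hc'
    have hca : a' * c = c * a' :=
      comm_sum R (i := j) (j := i) hij.symm hA' hA ha' (by rw [add_comm]; exact hc')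
    -- `a' = a`
    have haa : a'⁻¹ * a = 1 := by
      refine eq_one_of_UJ_VJ R (J := {j}) ?_ ?_
      · rw [UJ_single]
        exact mul_mem (inv_mem ha') ha
      · have e : a'⁻¹ * a = c * v2 * v⁻¹ := by
          have e1 : a = g * v⁻¹ := by rw [hgav]; group
          rw [e1, hguv, hua, ← hca]
          group
        rw [e]
        exact mul_mem (mul_mem hcV (hVij' hv2)) (inv_mem hv)
    have ha'1 : a' ≠ 1 := by
      rintro rfl
      rw [inv_one, one_mul] at haa
      exact ha1 haa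
    obtain ⟨b, hb, hbc⟩ := exists_conj_eq R hij hA hA' ha' ha'1 hc'
    -- the conjugate
    have hbL : b ∈ LJ cs h T X {i, j} := X_le_LJ (PosJ_subset _ hPi) hb
    have hv3 : b * v2 * b⁻¹ ∈ VJ cs h X {i, j} :=
      (Subgroup.mem_normalizer_iff.1 (LJ_le_normalizer_VJ R {i, j} hbL) v2).1 hv2
    have hmL : n j * n i ∈ LJ cs h T X {i, j} :=
      mul_mem (n_mem_LJ R (Or.inr rfl)) (n_mem_LJ R (Or.inl rfl))
    have hv4 : (n j * n i) * (b * v2 * b⁻¹) * (n j * n i)⁻¹ ∈ VJ cs h X {i, j} :=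
      (Subgroup.mem_normalizer_iff.1 (LJ_le_normalizer_VJ R {i, j} hmL) _).1 hv3
    have hx : (n j * n i) * a' * (n j * n i)⁻¹ ∈ X (sr i) := by
      have h1 : cj (n j * n i) (X (sr j)) = X (sr i) := by
        rw [cj_mul, R.conj i _ hrj, rep_left hA, R.conj j _ (isRoot_sum R hA), rep_sum_right hA']
      rw [← h1]
      exact conj_mem_cj.2 ha'
    have e : n j * n i * b * g * (n j * n i * b)⁻¹ =
        ((n j * n i) * a' * (n j * n i)⁻¹) * ((n j * n i) * (b * v2 * b⁻¹) * (n j * n i)⁻¹) := by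
      have e1 : g = a' * c * v2 := by rw [hguv, hua, hca]
      calc n j * n i * b * g * (n j * n i * b)⁻¹
          = (n j * n i) * ((b * (a' * c) * b⁻¹) * (b * v2 * b⁻¹)) * (n j * n i)⁻¹ := by rw [e1]; group
        _ = _ := by rw [hbc]; group
    have hP : n j * n i * b * g * (n j * n i * b)⁻¹ ∈ PJ cs h T X {k | k ≠ j} := by
      rw [e]
      exact mul_mem (hUP (RGD.le_Sup (S := RGD.Pos cs h) ⟨hri, sr_nonneg i⟩ hx)) (hUP (VJ_le_U _ hv4))
    have h5 := hVi (hQ _ hP)
    have h6 : (n j * n i) * a' * (n j * n i)⁻¹ = 1 := by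
      refine eq_one_of_UJ_VJ R (J := {i}) ?_ ?_
      · rw [UJ_single]
        exact hx
      · have e2 : (n j * n i) * a' * (n j * n i)⁻¹ = n j * n i * b * g * (n j * n i * b)⁻¹ *
            ((n j * n i) * (b * v2 * b⁻¹) * (n j * n i)⁻¹)⁻¹ := by
          rw [e]
          group
        rw [e2]
        exact mul_mem h5 (inv_mem (hVij hv4))
    apply ha'1
    calc a' = (n j * n i)⁻¹ * ((n j * n i) * a' * (n j * n i)⁻¹) * (n j * n i) := by group
      _ = 1 := by rw [h6]; group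

/-- **Elements of a maximal parabolic subgroup can be moved out of the radical.** -/
theorem exists_notMem [Finite W] [Finite Y] (hG : GG cs h T X = ⊤) (hij : i ≠ j) (hA : A i j = -1)
    (hA' : A j i = -1) {g : Y} (h1 : g ≠ 1) (hg : ∃ y, y * g * y⁻¹ ∈ PJ cs h T X {k | k ≠ j}) :
    ∃ y, y * g * y⁻¹ ∈ PJ cs h T X {k | k ≠ j} ∧ y * g * y⁻¹ ∉ VJ cs h X {k | k ≠ j} := by
  by_contra hcon
  push Not at hcon
  have hPn := PJ_le_normalizer_VJ R (T := T) {k | k ≠ j}
  have key : ∀ p ∈ PJ cs h T X {k | k ≠ j}, ∀ y, y * g * y⁻¹ ∈ VJ cs h X {k | k ≠ j} →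
      p * y * g * (p * y)⁻¹ ∈ VJ cs h X {k | k ≠ j} := by
    intro p hp y hy
    have h2 := (Subgroup.mem_normalizer_iff.1 (hPn hp) _).1 hy
    rwa [show p * (y * g * y⁻¹) * p⁻¹ = p * y * g * (p * y)⁻¹ by group] at h2
  have key2 : ∀ y, y * g * y⁻¹ ∈ VJ cs h X {k | k ≠ j} → n j * y * g * (n j * y)⁻¹ ∈ VJ cs h X {k | k ≠ j} := by
    intro y hy
    have h2 := step R hij hA hA' hy (fun z hz => by
      have h3 := hcon (z * y)
      rw [show z * y * g * (z * y)⁻¹ = z * (y * g * y⁻¹) * z⁻¹ by group] at h3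
      exact h3 hz)
    rwa [show n j * (y * g * y⁻¹) * (n j)⁻¹ = n j * y * g * (n j * y)⁻¹ by group] at h2
  let H : Subgroup Y :=
    { carrier := {k | ∀ y, y * g * y⁻¹ ∈ VJ cs h X {k | k ≠ j} ↔ k * y * g * (k * y)⁻¹ ∈ VJ cs h X {k | k ≠ j}}
      one_mem' := by intro y; rw [one_mul]
      mul_mem' := by
        intro a b ha hb y
        rw [hb y, ha (b * y), mul_assoc a b y]
      inv_mem' := by
        intro a ha y
        have h2 := ha (a⁻¹ * y)
        rw [mul_inv_cancel_left] at h2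
        exact h2.symm }
  have hPH : PJ cs h T X {k | k ≠ j} ≤ H := by
    intro p hp y
    refine ⟨key p hp y, fun h2 => ?_⟩
    have h3 := key p⁻¹ (inv_mem hp) (p * y) h2
    rwa [inv_mul_cancel_left] at h3
  have hnH : n j ∈ H := by
    intro y
    refine ⟨key2 y, fun h2 => ?_⟩
    have h3 := key2 _ h2
    -- `n_j² ∈ T`
    have h4 : (n j * n j) ∈ T := by
      have h5 := R.nsys.rel j j
      rw [M.diagonal, pow_one] at h5
      exact h5
    have h5 : n j * n j ∈ PJ cs h T X {k | k ≠ j} := LJ_le_PJ (T_le_LJ h4)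
    have h6 := key _ (inv_mem h5) _ h3
    rwa [show (n j * n j)⁻¹ * (n j * (n j * y)) = y by group] at h6
  have htop : H = ⊤ := by
    have h2 := inf_eq_PJ R (P := H) (le_trans B_le_PJ hPH)
    rw [hG, inf_top_eq] at h2
    rw [h2]
    have h3 : {k | n k ∈ H} = (Set.univ : Set I) := by
      ext k
      simp only [Set.mem_univ, iff_true, Set.mem_ofPred_eq]
      by_cases hk : k = j
      · rw [hk]
        exact hnH
      · exact hPH (LJ_le_PJ (n_mem_LJ R hk))
    rw [h3, eq_top_iff, ← hG, ← LJ_univ (cs := cs) (h := h) (T := T) (X := X)]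
    exact LJ_le_PJ
  obtain ⟨y₀, hy₀⟩ := hg
  have hall : ∀ y, y * g * y⁻¹ ∈ VJ cs h X {k | k ≠ j} := by
    intro y
    have h2 : y * y₀⁻¹ ∈ H := by rw [htop]; exact Subgroup.mem_top _
    have h3 := (h2 y₀).1 (hcon _ hy₀)
    rwa [inv_mul_cancel_right] at h3
  -- the core is trivial
  obtain ⟨k, hk⟩ := exists_rp cs R.nsys (w0 cs)
  have h2 : g ∈ RGD.Sup X (RGD.Pos cs h) := by
    have h3 := VJ_le_U _ (hall 1)
    rwa [one_mul, inv_one, mul_one] at h3
  have h3 : g ∈ UN cs h X := by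
    rw [← cj_U R hk, mem_cj]
    have h4 := VJ_le_U _ (hall k⁻¹)
    rwa [inv_inv] at h4
  exact h1 (eq_one_of_mem_U_of_mem_BN R h2 (UN_le_BN h3))

end Main

end Cfsg.Agent.H164.F4.NotRad
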